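import Mathlib
import Cfsg.Agent.TcChain36.M23U.Top.Tab

set_option autoImplicit false
set_option maxRecDepth 100000
set_option linter.all false

namespace Cfsg.Agent.TcChain36.M23U.Top

open Cfsg.Spor Cfsg.Agent.Lib.TcFacts Cfsg.Agent.Lib.TcBits Cfsg.Agent.Lib.TcPres

theorem b0 : Block F al 0 256 255 :=
  block_of_check (k := 8) rfl (by decide +kernel)

theorem b1 : Block F al 256 512 256 :=
  block_of_check (k := 8) rfl (by decide +kernel)

theorem b2 : Block F al 512 768 254 :=
  block_of_check (k := 8) rfl (by decide +kernel)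

theorem b3 : Block F al 768 1024 253 :=
  block_of_check (k := 8) rfl (by decide +kernel)

theorem b4 : Block F al 1024 1280 250 :=
  block_of_check (k := 8) rfl (by decide +kernel)

theorem b5 : Block F al 1280 1536 247 :=
  block_of_check (k := 8) rfl (by decide +kernel)

theorem b6 : Block F al 1536 1792 222 :=
  block_of_check (k := 8) rfl (by decide +kernel)

theorem b7 : Block F al 1792 2048 256 :=
  block_of_check (k := 8) rfl (by decide +kernel)

theorem b8 : Block F al 2048 2304 253 :=
  block_of_check (k := 8) rfl (by decide +kernel)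

theorem b9 : Block F al 2304 2560 251 :=
  block_of_check (k := 8) rfl (by decide +kernel)

theorem b10 : Block F al 2560 2816 256 :=
  block_of_check (k := 8) rfl (by decide +kernel)

theorem b11 : Block F al 2816 3072 256 :=
  block_of_check (k := 8) rfl (by decide +kernel)

theorem b12 : Block F al 3072 3328 256 :=
  block_of_check (k := 8) rfl (by decide +kernel)

theorem b13 : Block F al 3328 3584 256 :=
  block_of_check (k := 8) rfl (by decide +kernel)

theorem b14 : Block F al 3584 3840 252 :=
  block_of_check (k := 8) rfl (by decide +kernel)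

theorem b15 : Block F al 3840 4096 256 :=
  block_of_check (k := 8) rfl (by decide +kernel)

theorem b16 : Block F al 4096 4352 256 :=
  block_of_check (k := 8) rfl (by decide +kernel)

theorem b17 : Block F al 4352 4608 256 :=
  block_of_check (k := 8) rfl (by decide +kernel)

theorem b18 : Block F al 4608 4864 256 :=
  block_of_check (k := 8) rfl (by decide +kernel)

theorem b19 : Block F al 4864 5120 250 :=
  block_of_check (k := 8) rfl (by decide +kernel)

theorem b20 : Block F al 5120 5376 256 :=
  block_of_check (k := 8) rfl (by decide +kernel)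

theorem b21 : Block F al 5376 5632 256 :=
  block_of_check (k := 8) rfl (by decide +kernel)

theorem b22 : Block F al 5632 5888 256 :=
  block_of_check (k := 8) rfl (by decide +kernel)

theorem b23 : Block F al 5888 6144 256 :=
  block_of_check (k := 8) rfl (by decide +kernel)

theorem b24 : Block F al 6144 6400 256 :=
  block_of_check (k := 8) rfl (by decide +kernel)

theorem b25 : Block F al 6400 6656 256 :=
  block_of_check (k := 8) rfl (by decide +kernel)

theorem b26 : Block F al 6656 6912 256 :=
  block_of_check (k := 8) rfl (by decide +kernel)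

theorem b27 : Block F al 6912 7168 255 :=
  block_of_check (k := 8) rfl (by decide +kernel)

theorem b28 : Block F al 7168 7424 255 :=
  block_of_check (k := 8) rfl (by decide +kernel)

theorem b29 : Block F al 7424 7680 256 :=
  block_of_check (k := 8) rfl (by decide +kernel)

theorem b30 : Block F al 7680 7936 256 :=
  block_of_check (k := 8) rfl (by decide +kernel)

theorem b31 : Block F al 7936 8192 256 :=
  block_of_check (k := 8) rfl (by decide +kernel)

theorem b32 : Block F al 8192 8448 256 :=
  block_of_check (k := 8) rfl (by decide +kernel)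

theorem b33 : Block F al 8448 8704 256 :=
  block_of_check (k := 8) rfl (by decide +kernel)

theorem b34 : Block F al 8704 8960 256 :=
  block_of_check (k := 8) rfl (by decide +kernel)

theorem b35 : Block F al 8960 9216 256 :=
  block_of_check (k := 8) rfl (by decide +kernel)

theorem b36 : Block F al 9216 9472 256 :=
  block_of_check (k := 8) rfl (by decide +kernel)

theorem b37 : Block F al 9472 9728 256 :=
  block_of_check (k := 8) rfl (by decide +kernel)

theorem b38 : Block F al 9728 9984 256 :=
  block_of_check (k := 8) rfl (by decide +kernel)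

theorem b39 : Block F al 9984 10240 256 :=
  block_of_check (k := 8) rfl (by decide +kernel)

theorem b40 : Block F al 10240 10496 256 :=
  block_of_check (k := 8) rfl (by decide +kernel)

theorem b41 : Block F al 10496 10752 256 :=
  block_of_check (k := 8) rfl (by decide +kernel)

theorem b42 : Block F al 10752 11008 256 :=
  block_of_check (k := 8) rfl (by decide +kernel)

theorem b43 : Block F al 11008 11264 256 :=
  block_of_check (k := 8) rfl (by decide +kernel)

theorem b44 : Block F al 11264 11520 256 :=
  block_of_check (k := 8) rfl (by decide +kernel)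

theorem b45 : Block F al 11520 11776 256 :=
  block_of_check (k := 8) rfl (by decide +kernel)

theorem b46 : Block F al 11776 12032 256 :=
  block_of_check (k := 8) rfl (by decide +kernel)

theorem b47 : Block F al 12032 12288 256 :=
  block_of_check (k := 8) rfl (by decide +kernel)

theorem b48 : Block F al 12288 12544 256 :=
  block_of_check (k := 8) rfl (by decide +kernel)

theorem b49 : Block F al 12544 12800 256 :=
  block_of_check (k := 8) rfl (by decide +kernel)

theorem b50 : Block F al 12800 13056 256 :=
  block_of_check (k := 8) rfl (by decide +kernel)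

theorem b51 : Block F al 13056 13312 256 :=
  block_of_check (k := 8) rfl (by decide +kernel)

theorem b52 : Block F al 13312 13568 256 :=
  block_of_check (k := 8) rfl (by decide +kernel)

theorem b53 : Block F al 13568 13824 256 :=
  block_of_check (k := 8) rfl (by decide +kernel)

theorem b54 : Block F al 13824 14080 256 :=
  block_of_check (k := 8) rfl (by decide +kernel)

theorem b55 : Block F al 14080 14336 256 :=
  block_of_check (k := 8) rfl (by decide +kernel)

theorem b56 : Block F al 14336 14592 256 :=
  block_of_check (k := 8) rfl (by decide +kernel)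

theorem b57 : Block F al 14592 14848 256 :=
  block_of_check (k := 8) rfl (by decide +kernel)

theorem b58 : Block F al 14848 15104 256 :=
  block_of_check (k := 8) rfl (by decide +kernel)

theorem b59 : Block F al 15104 15360 256 :=
  block_of_check (k := 8) rfl (by decide +kernel)

theorem b60 : Block F al 15360 15616 256 :=
  block_of_check (k := 8) rfl (by decide +kernel)

theorem b61 : Block F al 15616 15872 256 :=
  block_of_check (k := 8) rfl (by decide +kernel)

theorem b62 : Block F al 15872 16128 256 :=
  block_of_check (k := 8) rfl (by decide +kernel)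

theorem b63 : Block F al 16128 16384 256 :=
  block_of_check (k := 8) rfl (by decide +kernel)

theorem b64 : Block F al 16384 16640 256 :=
  block_of_check (k := 8) rfl (by decide +kernel)

theorem b65 : Block F al 16640 16896 256 :=
  block_of_check (k := 8) rfl (by decide +kernel)

theorem b66 : Block F al 16896 17152 256 :=
  block_of_check (k := 8) rfl (by decide +kernel)

theorem b67 : Block F al 17152 17408 256 :=
  block_of_check (k := 8) rfl (by decide +kernel)

theorem b68 : Block F al 17408 17664 256 :=
  block_of_check (k := 8) rfl (by decide +kernel)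

theorem b69 : Block F al 17664 17920 256 :=
  block_of_check (k := 8) rfl (by decide +kernel)

theorem b70 : Block F al 17920 18176 256 :=
  block_of_check (k := 8) rfl (by decide +kernel)

theorem b71 : Block F al 18176 18432 256 :=
  block_of_check (k := 8) rfl (by decide +kernel)

theorem b72 : Block F al 18432 18688 256 :=
  block_of_check (k := 8) rfl (by decide +kernel)

theorem b73 : Block F al 18688 18944 256 :=
  block_of_check (k := 8) rfl (by decide +kernel)

theorem b74 : Block F al 18944 19200 256 :=
  block_of_check (k := 8) rfl (by decide +kernel)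

theorem b75 : Block F al 19200 19456 256 :=
  block_of_check (k := 8) rfl (by decide +kernel)

theorem b76 : Block F al 19456 19712 256 :=
  block_of_check (k := 8) rfl (by decide +kernel)

theorem b77 : Block F al 19712 19968 256 :=
  block_of_check (k := 8) rfl (by decide +kernel)

theorem b78 : Block F al 19968 20224 256 :=
  block_of_check (k := 8) rfl (by decide +kernel)

theorem b79 : Block F al 20224 20480 256 :=
  block_of_check (k := 8) rfl (by decide +kernel)

theorem b80 : Block F al 20480 20736 256 :=
  block_of_check (k := 8) rfl (by decide +kernel)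

theorem b81 : Block F al 20736 20992 256 :=
  block_of_check (k := 8) rfl (by decide +kernel)

theorem b82 : Block F al 20992 21248 256 :=
  block_of_check (k := 8) rfl (by decide +kernel)

theorem b83 : Block F al 21248 21504 256 :=
  block_of_check (k := 8) rfl (by decide +kernel)

theorem b84 : Block F al 21504 21760 256 :=
  block_of_check (k := 8) rfl (by decide +kernel)

theorem b85 : Block F al 21760 22016 256 :=
  block_of_check (k := 8) rfl (by decide +kernel)

theorem b86 : Block F al 22016 22272 256 :=
  block_of_check (k := 8) rfl (by decide +kernel)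

theorem b87 : Block F al 22272 22528 256 :=
  block_of_check (k := 8) rfl (by decide +kernel)

theorem b88 : Block F al 22528 22784 256 :=
  block_of_check (k := 8) rfl (by decide +kernel)

theorem b89 : Block F al 22784 23040 256 :=
  block_of_check (k := 8) rfl (by decide +kernel)

theorem b90 : Block F al 23040 23296 256 :=
  block_of_check (k := 8) rfl (by decide +kernel)

theorem b91 : Block F al 23296 23552 256 :=
  block_of_check (k := 8) rfl (by decide +kernel)

theorem b92 : Block F al 23552 23808 256 :=
  block_of_check (k := 8) rfl (by decide +kernel)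

theorem b93 : Block F al 23808 24064 256 :=
  block_of_check (k := 8) rfl (by decide +kernel)

theorem b94 : Block F al 24064 24320 256 :=
  block_of_check (k := 8) rfl (by decide +kernel)

theorem b95 : Block F al 24320 24576 256 :=
  block_of_check (k := 8) rfl (by decide +kernel)

theorem b96 : Block F al 24576 24832 256 :=
  block_of_check (k := 8) rfl (by decide +kernel)

theorem b97 : Block F al 24832 25088 256 :=
  block_of_check (k := 8) rfl (by decide +kernel)

theorem b98 : Block F al 25088 25344 256 :=
  block_of_check (k := 8) rfl (by decide +kernel)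

theorem b99 : Block F al 25344 25600 256 :=
  block_of_check (k := 8) rfl (by decide +kernel)

theorem b100 : Block F al 25600 25856 256 :=
  block_of_check (k := 8) rfl (by decide +kernel)

theorem b101 : Block F al 25856 26112 256 :=
  block_of_check (k := 8) rfl (by decide +kernel)

theorem b102 : Block F al 26112 26368 256 :=
  block_of_check (k := 8) rfl (by decide +kernel)

theorem b103 : Block F al 26368 26624 256 :=
  block_of_check (k := 8) rfl (by decide +kernel)

theorem b104 : Block F al 26624 26880 253 :=
  block_of_check (k := 8) rfl (by decide +kernel)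

theorem b105 : Block F al 26880 27136 256 :=
  block_of_check (k := 8) rfl (by decide +kernel)

theorem b106 : Block F al 27136 27392 256 :=
  block_of_check (k := 8) rfl (by decide +kernel)

theorem b107 : Block F al 27392 27648 256 :=
  block_of_check (k := 8) rfl (by decide +kernel)

theorem b108 : Block F al 27648 27904 256 :=
  block_of_check (k := 8) rfl (by decide +kernel)

theorem b109 : Block F al 27904 28160 256 :=
  block_of_check (k := 8) rfl (by decide +kernel)

theorem b110 : Block F al 28160 28416 256 :=
  block_of_check (k := 8) rfl (by decide +kernel)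

theorem b111 : Block F al 28416 28672 256 :=
  block_of_check (k := 8) rfl (by decide +kernel)

theorem b112 : Block F al 28672 28928 256 :=
  block_of_check (k := 8) rfl (by decide +kernel)

theorem b113 : Block F al 28928 29184 256 :=
  block_of_check (k := 8) rfl (by decide +kernel)

theorem b114 : Block F al 29184 29440 256 :=
  block_of_check (k := 8) rfl (by decide +kernel)

theorem b115 : Block F al 29440 29696 256 :=
  block_of_check (k := 8) rfl (by decide +kernel)

theorem b116 : Block F al 29696 29952 256 :=
  block_of_check (k := 8) rfl (by decide +kernel)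

theorem b117 : Block F al 29952 30208 256 :=
  block_of_check (k := 8) rfl (by decide +kernel)

theorem b118 : Block F al 30208 30464 256 :=
  block_of_check (k := 8) rfl (by decide +kernel)

theorem b119 : Block F al 30464 30720 256 :=
  block_of_check (k := 8) rfl (by decide +kernel)

theorem b120 : Block F al 30720 30976 256 :=
  block_of_check (k := 8) rfl (by decide +kernel)

theorem b121 : Block F al 30976 31232 256 :=
  block_of_check (k := 8) rfl (by decide +kernel)

theorem b122 : Block F al 31232 31488 256 :=
  block_of_check (k := 8) rfl (by decide +kernel)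

theorem b123 : Block F al 31488 31744 256 :=
  block_of_check (k := 8) rfl (by decide +kernel)

theorem b124 : Block F al 31744 32000 5 :=
  block_of_check (k := 8) rfl (by decide +kernel)

theorem c0 : Block F al 0 256 255 := b0

theorem c1 : Block F al 0 512 511 :=
  block_comb c0 b1 (Nat.zero_le _) (Nat.le_of_ble_eq_true rfl) rfl

theorem c2 : Block F al 0 768 765 :=
  block_comb c1 b2 (Nat.zero_le _) (Nat.le_of_ble_eq_true rfl) rfl

theorem c3 : Block F al 0 1024 1018 :=
  block_comb c2 b3 (Nat.zero_le _) (Nat.le_of_ble_eq_true rfl) rfl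

theorem c4 : Block F al 0 1280 1268 :=
  block_comb c3 b4 (Nat.zero_le _) (Nat.le_of_ble_eq_true rfl) rfl

theorem c5 : Block F al 0 1536 1515 :=
  block_comb c4 b5 (Nat.zero_le _) (Nat.le_of_ble_eq_true rfl) rfl

theorem c6 : Block F al 0 1792 1737 :=
  block_comb c5 b6 (Nat.zero_le _) (Nat.le_of_ble_eq_true rfl) rfl

theorem c7 : Block F al 0 2048 1993 :=
  block_comb c6 b7 (Nat.zero_le _) (Nat.le_of_ble_eq_true rfl) rfl

theorem c8 : Block F al 0 2304 2246 :=
  block_comb c7 b8 (Nat.zero_le _) (Nat.le_of_ble_eq_true rfl) rfl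

theorem c9 : Block F al 0 2560 2497 :=
  block_comb c8 b9 (Nat.zero_le _) (Nat.le_of_ble_eq_true rfl) rfl

theorem c10 : Block F al 0 2816 2753 :=
  block_comb c9 b10 (Nat.zero_le _) (Nat.le_of_ble_eq_true rfl) rfl

theorem c11 : Block F al 0 3072 3009 :=
  block_comb c10 b11 (Nat.zero_le _) (Nat.le_of_ble_eq_true rfl) rfl

theorem c12 : Block F al 0 3328 3265 :=
  block_comb c11 b12 (Nat.zero_le _) (Nat.le_of_ble_eq_true rfl) rfl

theorem c13 : Block F al 0 3584 3521 :=
  block_comb c12 b13 (Nat.zero_le _) (Nat.le_of_ble_eq_true rfl) rfl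

theorem c14 : Block F al 0 3840 3773 :=
  block_comb c13 b14 (Nat.zero_le _) (Nat.le_of_ble_eq_true rfl) rfl

theorem c15 : Block F al 0 4096 4029 :=
  block_comb c14 b15 (Nat.zero_le _) (Nat.le_of_ble_eq_true rfl) rfl

theorem c16 : Block F al 0 4352 4285 :=
  block_comb c15 b16 (Nat.zero_le _) (Nat.le_of_ble_eq_true rfl) rfl

theorem c17 : Block F al 0 4608 4541 :=
  block_comb c16 b17 (Nat.zero_le _) (Nat.le_of_ble_eq_true rfl) rfl

theorem c18 : Block F al 0 4864 4797 :=
  block_comb c17 b18 (Nat.zero_le _) (Nat.le_of_ble_eq_true rfl) rfl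

theorem c19 : Block F al 0 5120 5047 :=
  block_comb c18 b19 (Nat.zero_le _) (Nat.le_of_ble_eq_true rfl) rfl

theorem c20 : Block F al 0 5376 5303 :=
  block_comb c19 b20 (Nat.zero_le _) (Nat.le_of_ble_eq_true rfl) rfl

theorem c21 : Block F al 0 5632 5559 :=
  block_comb c20 b21 (Nat.zero_le _) (Nat.le_of_ble_eq_true rfl) rfl

theorem c22 : Block F al 0 5888 5815 :=
  block_comb c21 b22 (Nat.zero_le _) (Nat.le_of_ble_eq_true rfl) rfl

theorem c23 : Block F al 0 6144 6071 :=
  block_comb c22 b23 (Nat.zero_le _) (Nat.le_of_ble_eq_true rfl) rfl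

theorem c24 : Block F al 0 6400 6327 :=
  block_comb c23 b24 (Nat.zero_le _) (Nat.le_of_ble_eq_true rfl) rfl

theorem c25 : Block F al 0 6656 6583 :=
  block_comb c24 b25 (Nat.zero_le _) (Nat.le_of_ble_eq_true rfl) rfl

theorem c26 : Block F al 0 6912 6839 :=
  block_comb c25 b26 (Nat.zero_le _) (Nat.le_of_ble_eq_true rfl) rfl

theorem c27 : Block F al 0 7168 7094 :=
  block_comb c26 b27 (Nat.zero_le _) (Nat.le_of_ble_eq_true rfl) rfl

theorem c28 : Block F al 0 7424 7349 :=
  block_comb c27 b28 (Nat.zero_le _) (Nat.le_of_ble_eq_true rfl) rfl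

theorem c29 : Block F al 0 7680 7605 :=
  block_comb c28 b29 (Nat.zero_le _) (Nat.le_of_ble_eq_true rfl) rfl

theorem c30 : Block F al 0 7936 7861 :=
  block_comb c29 b30 (Nat.zero_le _) (Nat.le_of_ble_eq_true rfl) rfl

theorem c31 : Block F al 0 8192 8117 :=
  block_comb c30 b31 (Nat.zero_le _) (Nat.le_of_ble_eq_true rfl) rfl

theorem c32 : Block F al 0 8448 8373 :=
  block_comb c31 b32 (Nat.zero_le _) (Nat.le_of_ble_eq_true rfl) rfl

theorem c33 : Block F al 0 8704 8629 :=
  block_comb c32 b33 (Nat.zero_le _) (Nat.le_of_ble_eq_true rfl) rfl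

theorem c34 : Block F al 0 8960 8885 :=
  block_comb c33 b34 (Nat.zero_le _) (Nat.le_of_ble_eq_true rfl) rfl

theorem c35 : Block F al 0 9216 9141 :=
  block_comb c34 b35 (Nat.zero_le _) (Nat.le_of_ble_eq_true rfl) rfl

theorem c36 : Block F al 0 9472 9397 :=
  block_comb c35 b36 (Nat.zero_le _) (Nat.le_of_ble_eq_true rfl) rfl

theorem c37 : Block F al 0 9728 9653 :=
  block_comb c36 b37 (Nat.zero_le _) (Nat.le_of_ble_eq_true rfl) rfl

theorem c38 : Block F al 0 9984 9909 :=
  block_comb c37 b38 (Nat.zero_le _) (Nat.le_of_ble_eq_true rfl) rfl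

theorem c39 : Block F al 0 10240 10165 :=
  block_comb c38 b39 (Nat.zero_le _) (Nat.le_of_ble_eq_true rfl) rfl

theorem c40 : Block F al 0 10496 10421 :=
  block_comb c39 b40 (Nat.zero_le _) (Nat.le_of_ble_eq_true rfl) rfl

theorem c41 : Block F al 0 10752 10677 :=
  block_comb c40 b41 (Nat.zero_le _) (Nat.le_of_ble_eq_true rfl) rfl

theorem c42 : Block F al 0 11008 10933 :=
  block_comb c41 b42 (Nat.zero_le _) (Nat.le_of_ble_eq_true rfl) rfl

theorem c43 : Block F al 0 11264 11189 :=
  block_comb c42 b43 (Nat.zero_le _) (Nat.le_of_ble_eq_true rfl) rfl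

theorem c44 : Block F al 0 11520 11445 :=
  block_comb c43 b44 (Nat.zero_le _) (Nat.le_of_ble_eq_true rfl) rfl

theorem c45 : Block F al 0 11776 11701 :=
  block_comb c44 b45 (Nat.zero_le _) (Nat.le_of_ble_eq_true rfl) rfl

theorem c46 : Block F al 0 12032 11957 :=
  block_comb c45 b46 (Nat.zero_le _) (Nat.le_of_ble_eq_true rfl) rfl

theorem c47 : Block F al 0 12288 12213 :=
  block_comb c46 b47 (Nat.zero_le _) (Nat.le_of_ble_eq_true rfl) rfl

theorem c48 : Block F al 0 12544 12469 :=
  block_comb c47 b48 (Nat.zero_le _) (Nat.le_of_ble_eq_true rfl) rfl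

theorem c49 : Block F al 0 12800 12725 :=
  block_comb c48 b49 (Nat.zero_le _) (Nat.le_of_ble_eq_true rfl) rfl

theorem c50 : Block F al 0 13056 12981 :=
  block_comb c49 b50 (Nat.zero_le _) (Nat.le_of_ble_eq_true rfl) rfl

theorem c51 : Block F al 0 13312 13237 :=
  block_comb c50 b51 (Nat.zero_le _) (Nat.le_of_ble_eq_true rfl) rfl

theorem c52 : Block F al 0 13568 13493 :=
  block_comb c51 b52 (Nat.zero_le _) (Nat.le_of_ble_eq_true rfl) rfl

theorem c53 : Block F al 0 13824 13749 :=
  block_comb c52 b53 (Nat.zero_le _) (Nat.le_of_ble_eq_true rfl) rfl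

theorem c54 : Block F al 0 14080 14005 :=
  block_comb c53 b54 (Nat.zero_le _) (Nat.le_of_ble_eq_true rfl) rfl

theorem c55 : Block F al 0 14336 14261 :=
  block_comb c54 b55 (Nat.zero_le _) (Nat.le_of_ble_eq_true rfl) rfl

theorem c56 : Block F al 0 14592 14517 :=
  block_comb c55 b56 (Nat.zero_le _) (Nat.le_of_ble_eq_true rfl) rfl

theorem c57 : Block F al 0 14848 14773 :=
  block_comb c56 b57 (Nat.zero_le _) (Nat.le_of_ble_eq_true rfl) rfl

theorem c58 : Block F al 0 15104 15029 :=
  block_comb c57 b58 (Nat.zero_le _) (Nat.le_of_ble_eq_true rfl) rfl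

theorem c59 : Block F al 0 15360 15285 :=
  block_comb c58 b59 (Nat.zero_le _) (Nat.le_of_ble_eq_true rfl) rfl

theorem c60 : Block F al 0 15616 15541 :=
  block_comb c59 b60 (Nat.zero_le _) (Nat.le_of_ble_eq_true rfl) rfl

theorem c61 : Block F al 0 15872 15797 :=
  block_comb c60 b61 (Nat.zero_le _) (Nat.le_of_ble_eq_true rfl) rfl

theorem c62 : Block F al 0 16128 16053 :=
  block_comb c61 b62 (Nat.zero_le _) (Nat.le_of_ble_eq_true rfl) rfl

theorem c63 : Block F al 0 16384 16309 :=
  block_comb c62 b63 (Nat.zero_le _) (Nat.le_of_ble_eq_true rfl) rfl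

theorem c64 : Block F al 0 16640 16565 :=
  block_comb c63 b64 (Nat.zero_le _) (Nat.le_of_ble_eq_true rfl) rfl

theorem c65 : Block F al 0 16896 16821 :=
  block_comb c64 b65 (Nat.zero_le _) (Nat.le_of_ble_eq_true rfl) rfl

theorem c66 : Block F al 0 17152 17077 :=
  block_comb c65 b66 (Nat.zero_le _) (Nat.le_of_ble_eq_true rfl) rfl

theorem c67 : Block F al 0 17408 17333 :=
  block_comb c66 b67 (Nat.zero_le _) (Nat.le_of_ble_eq_true rfl) rfl

theorem c68 : Block F al 0 17664 17589 :=
  block_comb c67 b68 (Nat.zero_le _) (Nat.le_of_ble_eq_true rfl) rfl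

theorem c69 : Block F al 0 17920 17845 :=
  block_comb c68 b69 (Nat.zero_le _) (Nat.le_of_ble_eq_true rfl) rfl

theorem c70 : Block F al 0 18176 18101 :=
  block_comb c69 b70 (Nat.zero_le _) (Nat.le_of_ble_eq_true rfl) rfl

theorem c71 : Block F al 0 18432 18357 :=
  block_comb c70 b71 (Nat.zero_le _) (Nat.le_of_ble_eq_true rfl) rfl

theorem c72 : Block F al 0 18688 18613 :=
  block_comb c71 b72 (Nat.zero_le _) (Nat.le_of_ble_eq_true rfl) rfl

theorem c73 : Block F al 0 18944 18869 :=
  block_comb c72 b73 (Nat.zero_le _) (Nat.le_of_ble_eq_true rfl) rfl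

theorem c74 : Block F al 0 19200 19125 :=
  block_comb c73 b74 (Nat.zero_le _) (Nat.le_of_ble_eq_true rfl) rfl

theorem c75 : Block F al 0 19456 19381 :=
  block_comb c74 b75 (Nat.zero_le _) (Nat.le_of_ble_eq_true rfl) rfl

theorem c76 : Block F al 0 19712 19637 :=
  block_comb c75 b76 (Nat.zero_le _) (Nat.le_of_ble_eq_true rfl) rfl

theorem c77 : Block F al 0 19968 19893 :=
  block_comb c76 b77 (Nat.zero_le _) (Nat.le_of_ble_eq_true rfl) rfl

theorem c78 : Block F al 0 20224 20149 :=
  block_comb c77 b78 (Nat.zero_le _) (Nat.le_of_ble_eq_true rfl) rfl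

theorem c79 : Block F al 0 20480 20405 :=
  block_comb c78 b79 (Nat.zero_le _) (Nat.le_of_ble_eq_true rfl) rfl

theorem c80 : Block F al 0 20736 20661 :=
  block_comb c79 b80 (Nat.zero_le _) (Nat.le_of_ble_eq_true rfl) rfl

theorem c81 : Block F al 0 20992 20917 :=
  block_comb c80 b81 (Nat.zero_le _) (Nat.le_of_ble_eq_true rfl) rfl

theorem c82 : Block F al 0 21248 21173 :=
  block_comb c81 b82 (Nat.zero_le _) (Nat.le_of_ble_eq_true rfl) rfl

theorem c83 : Block F al 0 21504 21429 :=
  block_comb c82 b83 (Nat.zero_le _) (Nat.le_of_ble_eq_true rfl) rfl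

theorem c84 : Block F al 0 21760 21685 :=
  block_comb c83 b84 (Nat.zero_le _) (Nat.le_of_ble_eq_true rfl) rfl

theorem c85 : Block F al 0 22016 21941 :=
  block_comb c84 b85 (Nat.zero_le _) (Nat.le_of_ble_eq_true rfl) rfl

theorem c86 : Block F al 0 22272 22197 :=
  block_comb c85 b86 (Nat.zero_le _) (Nat.le_of_ble_eq_true rfl) rfl

theorem c87 : Block F al 0 22528 22453 :=
  block_comb c86 b87 (Nat.zero_le _) (Nat.le_of_ble_eq_true rfl) rfl

theorem c88 : Block F al 0 22784 22709 :=
  block_comb c87 b88 (Nat.zero_le _) (Nat.le_of_ble_eq_true rfl) rfl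

theorem c89 : Block F al 0 23040 22965 :=
  block_comb c88 b89 (Nat.zero_le _) (Nat.le_of_ble_eq_true rfl) rfl

theorem c90 : Block F al 0 23296 23221 :=
  block_comb c89 b90 (Nat.zero_le _) (Nat.le_of_ble_eq_true rfl) rfl

theorem c91 : Block F al 0 23552 23477 :=
  block_comb c90 b91 (Nat.zero_le _) (Nat.le_of_ble_eq_true rfl) rfl

theorem c92 : Block F al 0 23808 23733 :=
  block_comb c91 b92 (Nat.zero_le _) (Nat.le_of_ble_eq_true rfl) rfl

theorem c93 : Block F al 0 24064 23989 :=
  block_comb c92 b93 (Nat.zero_le _) (Nat.le_of_ble_eq_true rfl) rfl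

theorem c94 : Block F al 0 24320 24245 :=
  block_comb c93 b94 (Nat.zero_le _) (Nat.le_of_ble_eq_true rfl) rfl

theorem c95 : Block F al 0 24576 24501 :=
  block_comb c94 b95 (Nat.zero_le _) (Nat.le_of_ble_eq_true rfl) rfl

theorem c96 : Block F al 0 24832 24757 :=
  block_comb c95 b96 (Nat.zero_le _) (Nat.le_of_ble_eq_true rfl) rfl

theorem c97 : Block F al 0 25088 25013 :=
  block_comb c96 b97 (Nat.zero_le _) (Nat.le_of_ble_eq_true rfl) rfl

theorem c98 : Block F al 0 25344 25269 :=
  block_comb c97 b98 (Nat.zero_le _) (Nat.le_of_ble_eq_true rfl) rfl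

theorem c99 : Block F al 0 25600 25525 :=
  block_comb c98 b99 (Nat.zero_le _) (Nat.le_of_ble_eq_true rfl) rfl

theorem c100 : Block F al 0 25856 25781 :=
  block_comb c99 b100 (Nat.zero_le _) (Nat.le_of_ble_eq_true rfl) rfl

theorem c101 : Block F al 0 26112 26037 :=
  block_comb c100 b101 (Nat.zero_le _) (Nat.le_of_ble_eq_true rfl) rfl

theorem c102 : Block F al 0 26368 26293 :=
  block_comb c101 b102 (Nat.zero_le _) (Nat.le_of_ble_eq_true rfl) rfl

theorem c103 : Block F al 0 26624 26549 :=
  block_comb c102 b103 (Nat.zero_le _) (Nat.le_of_ble_eq_true rfl) rfl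

theorem c104 : Block F al 0 26880 26802 :=
  block_comb c103 b104 (Nat.zero_le _) (Nat.le_of_ble_eq_true rfl) rfl

theorem c105 : Block F al 0 27136 27058 :=
  block_comb c104 b105 (Nat.zero_le _) (Nat.le_of_ble_eq_true rfl) rfl

theorem c106 : Block F al 0 27392 27314 :=
  block_comb c105 b106 (Nat.zero_le _) (Nat.le_of_ble_eq_true rfl) rfl

theorem c107 : Block F al 0 27648 27570 :=
  block_comb c106 b107 (Nat.zero_le _) (Nat.le_of_ble_eq_true rfl) rfl

theorem c108 : Block F al 0 27904 27826 :=
  block_comb c107 b108 (Nat.zero_le _) (Nat.le_of_ble_eq_true rfl) rfl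

theorem c109 : Block F al 0 28160 28082 :=
  block_comb c108 b109 (Nat.zero_le _) (Nat.le_of_ble_eq_true rfl) rfl

theorem c110 : Block F al 0 28416 28338 :=
  block_comb c109 b110 (Nat.zero_le _) (Nat.le_of_ble_eq_true rfl) rfl

theorem c111 : Block F al 0 28672 28594 :=
  block_comb c110 b111 (Nat.zero_le _) (Nat.le_of_ble_eq_true rfl) rfl

theorem c112 : Block F al 0 28928 28850 :=
  block_comb c111 b112 (Nat.zero_le _) (Nat.le_of_ble_eq_true rfl) rfl

theorem c113 : Block F al 0 29184 29106 :=
  block_comb c112 b113 (Nat.zero_le _) (Nat.le_of_ble_eq_true rfl) rfl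

theorem c114 : Block F al 0 29440 29362 :=
  block_comb c113 b114 (Nat.zero_le _) (Nat.le_of_ble_eq_true rfl) rfl

theorem c115 : Block F al 0 29696 29618 :=
  block_comb c114 b115 (Nat.zero_le _) (Nat.le_of_ble_eq_true rfl) rfl

theorem c116 : Block F al 0 29952 29874 :=
  block_comb c115 b116 (Nat.zero_le _) (Nat.le_of_ble_eq_true rfl) rfl

theorem c117 : Block F al 0 30208 30130 :=
  block_comb c116 b117 (Nat.zero_le _) (Nat.le_of_ble_eq_true rfl) rfl

theorem c118 : Block F al 0 30464 30386 :=
  block_comb c117 b118 (Nat.zero_le _) (Nat.le_of_ble_eq_true rfl) rfl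

theorem c119 : Block F al 0 30720 30642 :=
  block_comb c118 b119 (Nat.zero_le _) (Nat.le_of_ble_eq_true rfl) rfl

theorem c120 : Block F al 0 30976 30898 :=
  block_comb c119 b120 (Nat.zero_le _) (Nat.le_of_ble_eq_true rfl) rfl

theorem c121 : Block F al 0 31232 31154 :=
  block_comb c120 b121 (Nat.zero_le _) (Nat.le_of_ble_eq_true rfl) rfl

theorem c122 : Block F al 0 31488 31410 :=
  block_comb c121 b122 (Nat.zero_le _) (Nat.le_of_ble_eq_true rfl) rfl

theorem c123 : Block F al 0 31744 31666 :=
  block_comb c122 b123 (Nat.zero_le _) (Nat.le_of_ble_eq_true rfl) rfl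

theorem c124 : Block F al 0 32000 31671 :=
  block_comb c123 b124 (Nat.zero_le _) (Nat.le_of_ble_eq_true rfl) rfl

end Cfsg.Agent.TcChain36.M23U.Top
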